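import Mathlib
import Cfsg.Agent.Lib.Helper43.OrthCard
import Cfsg.Agent.Lib.Helper14.OCls.Defs

/-!
# OCLS package [CLASSEVEN]: classification of non-degenerate quadratic forms of even dimension

Over a finite field a quadratic form of dimension `2m` with non-degenerate polar form is
isometric to the plus form or to the minus form (given singular vectors in dimension `≥ 3`,
hyperbolic splitting and uniqueness of the anisotropic plane as hypotheses).

Reusable: `splitPlus`, `splitMinus` (splitting off the last hyperbolic plane of the standard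
forms), `class_step` (the induction step, with a similarity factor `c`), `class_zero`.
-/

set_option autoImplicit false

namespace Cfsg.Agent.Lib.Helper76.OCls

open Cfsg.Agent.Lib.Helper43 Cfsg.Agent.Lib.Helper14.OCls

universe u

section Step

variable {F : Type*} [Field F]

/-- Splitting off the last hyperbolic plane of the plus form. -/
def splitPlus (F : Type*) [Field F] (k : ℕ) :
    (Fin (k + 1) ⊕ Fin (k + 1) → F) ≃ₗ[F] (Fin k ⊕ Fin k → F) × F × F where
  toFun v := (fun i => v (Sum.map Fin.castSucc Fin.castSucc i),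
    v (Sum.inl (Fin.last k)), v (Sum.inr (Fin.last k)))
  invFun w := Sum.elim (Fin.lastCases w.2.1 (fun j => w.1 (Sum.inl j)))
      (Fin.lastCases w.2.2 (fun j => w.1 (Sum.inr j)))
  map_add' v w := rfl
  map_smul' c v := rfl
  left_inv v := by
    funext i
    rcases i with i | i
    · refine Fin.lastCases ?_ (fun j => ?_) i
      · simp
      · simp
    · refine Fin.lastCases ?_ (fun j => ?_) i
      · simp
      · simp
  right_inv w := by
    refine Prod.ext ?_ (Prod.ext ?_ ?_)
    · funext i
      rcases i with i | i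
      · simp
      · simp
    · simp
    · simp

theorem quadFormPlus_succ (k : ℕ) (v : Fin (k + 1) ⊕ Fin (k + 1) → F) :
    Cfsg.quadFormPlus (k + 1) F v = Cfsg.quadFormPlus k F (splitPlus F k v).1
      + (splitPlus F k v).2.1 * (splitPlus F k v).2.2 := by
  rw [Cfsg.quadFormPlus, Cfsg.quadFormPlus, Fin.sum_univ_castSucc]
  rfl

/-- Splitting off the last hyperbolic plane of the minus form. -/
def splitMinus (F : Type*) [Field F] (k : ℕ) :
    ((Fin (k + 1) ⊕ Fin (k + 1)) ⊕ Fin 2 → F) ≃ₗ[F] ((Fin k ⊕ Fin k) ⊕ Fin 2 → F) × F × F where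
  toFun v := (fun i => v (Sum.map (Sum.map Fin.castSucc Fin.castSucc) id i),
    v (Sum.inl (Sum.inl (Fin.last k))), v (Sum.inl (Sum.inr (Fin.last k))))
  invFun w := Sum.elim (Sum.elim (Fin.lastCases w.2.1 (fun j => w.1 (Sum.inl (Sum.inl j))))
      (Fin.lastCases w.2.2 (fun j => w.1 (Sum.inl (Sum.inr j))))) (fun i => w.1 (Sum.inr i))
  map_add' v w := rfl
  map_smul' c v := rfl
  left_inv v := by
    funext i
    rcases i with (i | i) | i
    · refine Fin.lastCases ?_ (fun j => ?_) i
      · simp
      · simp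
    · refine Fin.lastCases ?_ (fun j => ?_) i
      · simp
      · simp
    · rfl
  right_inv w := by
    refine Prod.ext ?_ (Prod.ext ?_ ?_)
    · funext i
      rcases i with (i | i) | i
      · simp
      · simp
      · rfl
    · simp
    · simp

theorem quadFormMinus_succ (a c : F) (k : ℕ) (v : (Fin (k + 1) ⊕ Fin (k + 1)) ⊕ Fin 2 → F) :
    Cfsg.quadFormMinus (k + 1) F a c v = Cfsg.quadFormMinus k F a c (splitMinus F k v).1
      + (splitMinus F k v).2.1 * (splitMinus F k v).2.2 := by
  rw [Cfsg.quadFormMinus, Cfsg.quadFormMinus, Fin.sum_univ_castSucc, add_right_comm]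
  rfl

/-- The induction step: if `Q ≅ Q|W ⊥ H` and `Q|W` is similar (factor `c`) to the standard form
`formX`, and the standard form `formY` is `formX ⊥ H`, then `Q` is similar (factor `c`) to
`formY`. -/
theorem class_step {X Y : Type*} (formX : (X → F) → F) (formY : (Y → F) → F)
    (S : (Y → F) ≃ₗ[F] ((X → F) × F × F))
    (hS : ∀ v, formY v = formX (S v).1 + (S v).2.1 * (S v).2.2)
    {V : Type*} [AddCommGroup V] [Module F V] (Q : QuadraticForm F V)
    (W : Submodule F V) (φ : V ≃ₗ[F] (W × F × F))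
    (hφ : ∀ v, hypExt (Q.comp W.subtype) (φ v) = Q v)
    (c : F) (hc : c ≠ 0)
    (ψ : W ≃ₗ[F] (X → F)) (hψ : ∀ w : W, formX (ψ w) = c * Q (w : V)) :
    ∃ Φ : V ≃ₗ[F] (Y → F), ∀ v, formY (Φ v) = c * Q v := by
  refine ⟨φ.trans ((LinearEquiv.prodCongr ψ (LinearEquiv.prodCongr
    (LinearEquiv.smulOfNeZero F F c hc) (LinearEquiv.refl F F))).trans S.symm), fun v => ?_⟩
  rw [hS]
  simp only [LinearEquiv.trans_apply, LinearEquiv.apply_symm_apply]
  rw [← hφ v, hypExt_apply]
  show formX (ψ (φ v).1) + (c • (φ v).2.1) * (φ v).2.2 = c * (Q ((φ v).1 : V) + _)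
  rw [hψ, smul_eq_mul]
  ring

/-- Dimension zero. -/
theorem class_zero {V : Type*} [AddCommGroup V] [Module F V] [FiniteDimensional F V]
    (Q : QuadraticForm F V) (h : Module.finrank F V = 0) :
    ∃ φ : V ≃ₗ[F] (Fin 0 ⊕ Fin 0 → F), ∀ v, Cfsg.quadFormPlus 0 F (φ v) = Q v := by
  have hsub : Subsingleton V := Module.finrank_zero_iff.1 h
  have h2 : Module.finrank F (Fin 0 ⊕ Fin 0 → F) = 0 := by simp
  obtain ⟨φ⟩ := FiniteDimensional.nonempty_linearEquiv_of_finrank_eq (h.trans h2.symm)
  refine ⟨φ, fun v => ?_⟩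
  rw [Subsingleton.elim v 0, map_zero, map_zero]
  simp [Cfsg.quadFormPlus]

/-- The rank of the complement in a hyperbolic splitting. -/
theorem finrank_split {V : Type*} [AddCommGroup V] [Module F V] [FiniteDimensional F V]
    (W : Submodule F V) (φ : V ≃ₗ[F] (W × F × F)) :
    Module.finrank F V = Module.finrank F W + 2 := by
  have h1 := LinearEquiv.finrank_eq φ
  rw [Module.finrank_prod, Module.finrank_prod, Module.finrank_self] at h1
  omega

end Step

/-- The classification in even dimension, by induction on the Witt index. -/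
theorem classEven_aux (hSing : PkgSing.{u}) (hSplit : PkgSplit.{u}) (hAU : PkgAnisoUnique.{u})
    {F : Type u} [Field F] [Fintype F] (a c : F) (hac : Aniso a c) (m : ℕ) :
    ∀ {V : Type u} [AddCommGroup V] [Module F V] [FiniteDimensional F V] (Q : QuadraticForm F V),
      (QuadraticMap.polarBilin Q).Nondegenerate → Module.finrank F V = 2 * m →
      (∃ φ : V ≃ₗ[F] (Fin m ⊕ Fin m → F), ∀ v, Cfsg.quadFormPlus m F (φ v) = Q v) ∨
        (∃ m' : ℕ, m = m' + 1 ∧ ∃ φ : V ≃ₗ[F] ((Fin m' ⊕ Fin m') ⊕ Fin 2 → F),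
          ∀ v, Cfsg.quadFormMinus m' F a c (φ v) = Q v) := by
  induction m with
  | zero =>
    intro V _ _ _ Q _ hm
    exact Or.inl (class_zero Q hm)
  | succ m ih =>
    intro V _ _ _ Q hQ hm
    by_cases hz : ∃ e : V, e ≠ 0 ∧ Q e = 0
    · obtain ⟨e, he, he0⟩ := hz
      obtain ⟨W, φ, hφ, hW⟩ := hSplit Q hQ e he he0
      have hfr : Module.finrank F W = 2 * m := by
        have h1 := finrank_split W φ
        omega
      rcases ih (Q.comp W.subtype) hW hfr with ⟨ψ, hψ⟩ | ⟨m', hm', ψ, hψ⟩
      · left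
        obtain ⟨Φ, hΦ⟩ := class_step (Cfsg.quadFormPlus m F) (Cfsg.quadFormPlus (m + 1) F)
          (splitPlus F m) (quadFormPlus_succ m) Q W φ hφ 1 one_ne_zero ψ
          (fun w => by rw [hψ, one_mul]; rfl)
        exact ⟨Φ, fun v => by rw [hΦ, one_mul]⟩
      · right
        subst hm'
        obtain ⟨Φ, hΦ⟩ := class_step (Cfsg.quadFormMinus m' F a c)
          (Cfsg.quadFormMinus (m' + 1) F a c)
          (splitMinus F m') (quadFormMinus_succ a c m') Q W φ hφ 1 one_ne_zero ψ
          (fun w => by rw [hψ, one_mul]; rfl)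
        exact ⟨m' + 1, rfl, Φ, fun v => by rw [hΦ, one_mul]⟩
    · right
      have hle : ¬ 3 ≤ Module.finrank F V := fun h3 => hz (hSing Q h3)
      have hm0 : m = 0 := by omega
      subst hm0
      obtain ⟨φ, hφ⟩ := hAU Q hQ hm
        (fun v hv => by
          by_contra hne
          exact hz ⟨v, hne, hv⟩) a c hac
      exact ⟨0, rfl, φ, hφ⟩

/-- Package [CLASSEVEN] of the OCLS project. -/
theorem pkgClassEven : Cfsg.Agent.Lib.Helper14.OCls.PkgClassEven.{u} := by
  intro hSing hSplit hAU F _ _ V _ _ _ Q hQ m hm a c hac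
  exact classEven_aux hSing hSplit hAU a c hac m Q hQ hm

end Cfsg.Agent.Lib.Helper76.OCls
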