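import Mathlib
import Cfsg.Agent.Lib.Helper43.OrthTower
import Cfsg.Agent.Lib.Helper14.OCls.Defs
import Cfsg.Agent.Lib.Helper76.OCls.ClassEven

/-!
# OCLS package [CLASSODD]: classification of non-degenerate quadratic forms of odd dimension

Over a finite field a quadratic form of dimension `2m + 1` with non-degenerate polar form is
similar to the standard form `x₀² + Σ x_i y_i` (given singular vectors in dimension `≥ 3` and
hyperbolic splitting as hypotheses).
-/

set_option autoImplicit false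

namespace Cfsg.Agent.Lib.Helper76.OCls

open Cfsg.Agent.Lib.Helper43 Cfsg.Agent.Lib.Helper14.OCls

universe u

section Step

variable {F : Type*} [Field F]

theorem quadFormOdd_succ (k : ℕ) (v : Unit ⊕ (Fin (k + 1) ⊕ Fin (k + 1)) → F) :
    Cfsg.quadFormOdd (k + 1) F v = Cfsg.quadFormOdd k F (splitLast F Unit k v).1
      + (splitLast F Unit k v).2.1 * (splitLast F Unit k v).2.2 := by
  rw [Cfsg.quadFormOdd, Cfsg.quadFormOdd, Fin.sum_univ_castSucc, add_assoc]
  rfl

/-- Dimension one: a non-degenerate form is similar to `x²`. -/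
theorem class_one {V : Type*} [AddCommGroup V] [Module F V] [FiniteDimensional F V]
    (Q : QuadraticForm F V) (hQ : (QuadraticMap.polarBilin Q).Nondegenerate)
    (h : Module.finrank F V = 1) :
    ∃ (c : F) (φ : V ≃ₗ[F] (Unit ⊕ (Fin 0 ⊕ Fin 0) → F)), c ≠ 0 ∧
      ∀ v, Cfsg.quadFormOdd 0 F (φ v) = c * Q v := by
  have h2 : Module.finrank F (Unit ⊕ (Fin 0 ⊕ Fin 0) → F) = 1 := by simp
  obtain ⟨θ⟩ := FiniteDimensional.nonempty_linearEquiv_of_finrank_eq (h.trans h2.symm)
  obtain ⟨v0, hv0⟩ : ∃ v0 : V, θ v0 = fun _ => 1 := ⟨θ.symm (fun _ => 1), θ.apply_symm_apply _⟩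
  have hv : ∀ v, v = (θ v (Sum.inl ())) • v0 := by
    intro v
    apply θ.injective
    rw [map_smul, hv0]
    funext i
    rcases i with ⟨⟩ | i | i
    · simp
    · exact i.elim0
    · exact i.elim0
  have hv0ne : v0 ≠ 0 := by
    intro h0
    have h3 : θ v0 = 0 := by rw [h0, map_zero]
    rw [hv0] at h3
    have h4 := congrFun h3 (Sum.inl ())
    simp at h4
  have hQ0 : Q v0 ≠ 0 := by
    intro h0
    apply hv0ne
    apply hQ.1
    intro w
    rw [QuadraticMap.polarBilin_apply_apply, hv w, QuadraticMap.polar_smul_right,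
      QuadraticMap.polar_self, h0]
    simp
  refine ⟨(Q v0)⁻¹, θ, inv_ne_zero hQ0, fun v => ?_⟩
  conv_rhs => rw [hv v, QuadraticMap.map_smul]
  rw [Cfsg.quadFormOdd]
  simp only [Finset.univ_eq_empty, Finset.sum_empty, add_zero, smul_eq_mul]
  field_simp

end Step

/-- The classification in odd dimension, by induction on the Witt index. -/
theorem classOdd_aux (hSing : PkgSing.{u}) (hSplit : PkgSplit.{u})
    {F : Type u} [Field F] [Fintype F] (m : ℕ) :
    ∀ {V : Type u} [AddCommGroup V] [Module F V] [FiniteDimensional F V] (Q : QuadraticForm F V),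
      (QuadraticMap.polarBilin Q).Nondegenerate → Module.finrank F V = 2 * m + 1 →
      ∃ (c : F) (φ : V ≃ₗ[F] (Unit ⊕ (Fin m ⊕ Fin m) → F)), c ≠ 0 ∧
        ∀ v, Cfsg.quadFormOdd m F (φ v) = c * Q v := by
  induction m with
  | zero =>
    intro V _ _ _ Q hQ hm
    exact class_one Q hQ hm
  | succ m ih =>
    intro V _ _ _ Q hQ hm
    obtain ⟨e, he, he0⟩ := hSing Q (by omega)
    obtain ⟨W, φ, hφ, hW⟩ := hSplit Q hQ e he he0
    have hfr : Module.finrank F W = 2 * m + 1 := by
      have h1 := finrank_split W φ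
      omega
    obtain ⟨c, ψ, hc, hψ⟩ := ih (Q.comp W.subtype) hW hfr
    obtain ⟨Φ, hΦ⟩ := class_step (Cfsg.quadFormOdd m F) (Cfsg.quadFormOdd (m + 1) F)
      (splitLast F Unit m) (quadFormOdd_succ m) Q W φ hφ c hc ψ
      (fun w => by rw [hψ]; rfl)
    exact ⟨c, Φ, hc, hΦ⟩

/-- Package [CLASSODD] of the OCLS project. -/
theorem pkgClassOdd : Cfsg.Agent.Lib.Helper14.OCls.PkgClassOdd.{u} := by
  intro hSing hSplit F _ _ _ V _ _ _ Q hQ m hm
  exact classOdd_aux hSing hSplit m Q hQ hm

end Cfsg.Agent.Lib.Helper76.OCls
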