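import Mathlib
import Cfsg.Agent.Lib.Helper43.OrthCard
import Cfsg.Agent.Lib.Helper14.OCls.Defs

/-!
# OCLS package [SPLIT]: splitting off a hyperbolic plane through a singular vector

`exists_hyp_pair`: a non-zero singular vector `e` of a quadratic form with non-degenerate polar
form has a partner `f` with `Q f = 0`, `polar Q e f = 1`.
`split_hyp`: then `V ≃ W × F × F` with `W = e^⊥ ∩ f^⊥`, `Q = Q|W ⊥ (x, y) ↦ x * y`, and `Q|W` is
non-degenerate (any field, no finiteness).  `pkgSplit` is the package of helper14's interface.
-/

set_option autoImplicit false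

namespace Cfsg.Agent.Lib.Helper76.OCls

open Cfsg.Agent.Lib.Helper43

section
variable {F : Type*} [Field F] {V : Type*} [AddCommGroup V] [Module F V]

/-- A singular vector of a non-degenerate form lies in a hyperbolic pair. -/
theorem exists_hyp_pair (Q : QuadraticForm F V)
    (hQ : (QuadraticMap.polarBilin Q).Nondegenerate) (e : V) (he : e ≠ 0) (he0 : Q e = 0) :
    ∃ f : V, Q f = 0 ∧ QuadraticMap.polar Q e f = 1 := by
  have h1 : ∃ w, QuadraticMap.polar Q e w ≠ 0 := by
    by_contra hcon
    exact he (hQ.1 e fun w => by
      by_contra hw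
      exact hcon ⟨w, hw⟩)
  obtain ⟨w, hw⟩ := h1
  have hee : QuadraticMap.polar Q e e = 0 := by
    rw [QuadraticMap.polar_self, he0]; simp
  have h2 : QuadraticMap.polar Q e ((QuadraticMap.polar Q e w)⁻¹ • w) = 1 := by
    rw [QuadraticMap.polar_smul_right, smul_eq_mul, inv_mul_cancel₀ hw]
  generalize (QuadraticMap.polar Q e w)⁻¹ • w = w' at h2
  refine ⟨w' + (-(Q w')) • e, ?_, ?_⟩
  · rw [QuadraticMap.map_add Q, QuadraticMap.map_smul, QuadraticMap.polar_smul_right, he0,
      QuadraticMap.polar_comm, h2]
    simp
  · rw [QuadraticMap.polar_add_right, QuadraticMap.polar_smul_right, hee, h2]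
    simp

/-- Splitting off a hyperbolic plane through a singular vector (any field, any module). -/
theorem split_hyp (Q : QuadraticForm F V)
    (hQ : (QuadraticMap.polarBilin Q).Nondegenerate) (e : V) (he : e ≠ 0) (he0 : Q e = 0) :
    ∃ (W : Submodule F V) (φ : V ≃ₗ[F] (W × F × F)),
      (∀ v, hypExt (Q.comp W.subtype) (φ v) = Q v) ∧
        (QuadraticMap.polarBilin (Q.comp W.subtype)).Nondegenerate := by
  obtain ⟨f, hf0, hef⟩ := exists_hyp_pair Q hQ e he he0
  have hfe : QuadraticMap.polar Q f e = 1 := by rw [QuadraticMap.polar_comm]; exact hef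
  have hee : QuadraticMap.polar Q e e = 0 := by rw [QuadraticMap.polar_self, he0]; simp
  have hff : QuadraticMap.polar Q f f = 0 := by rw [QuadraticMap.polar_self, hf0]; simp
  let W : Submodule F V :=
    LinearMap.ker (QuadraticMap.polarBilin Q e) ⊓ LinearMap.ker (QuadraticMap.polarBilin Q f)
  have hW : ∀ v, v ∈ W ↔ QuadraticMap.polar Q e v = 0 ∧ QuadraticMap.polar Q f v = 0 := by
    intro v
    simp only [W, Submodule.mem_inf, LinearMap.mem_ker, QuadraticMap.polarBilin_apply_apply]
  have hproj : ∀ v, v - QuadraticMap.polar Q f v • e - QuadraticMap.polar Q e v • f ∈ W := by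
    intro v
    rw [hW]
    constructor
    · simp only [QuadraticMap.polar_sub_right, QuadraticMap.polar_smul_right, hee, hef]; simp
    · simp only [QuadraticMap.polar_sub_right, QuadraticMap.polar_smul_right, hfe, hff]; simp
  let φ : V ≃ₗ[F] (W × F × F) :=
    { toFun := fun v => (⟨_, hproj v⟩, QuadraticMap.polar Q f v, QuadraticMap.polar Q e v)
      map_add' := by
        intro x y
        refine Prod.ext (Subtype.ext ?_) (Prod.ext ?_ ?_)
        · simp only [QuadraticMap.polar_add_right, Submodule.coe_add, Prod.fst_add]
          module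
        · simp only [QuadraticMap.polar_add_right, Prod.snd_add, Prod.fst_add]
        · simp only [QuadraticMap.polar_add_right, Prod.snd_add]
      map_smul' := by
        intro c x
        refine Prod.ext (Subtype.ext ?_) (Prod.ext ?_ ?_)
        · simp only [QuadraticMap.polar_smul_right, Submodule.coe_smul, Prod.smul_fst,
            RingHom.id_apply, smul_eq_mul]
          module
        · simp only [QuadraticMap.polar_smul_right, Prod.smul_snd, Prod.smul_fst,
            RingHom.id_apply]
        · simp only [QuadraticMap.polar_smul_right, Prod.smul_snd, RingHom.id_apply]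
      invFun := fun w => (w.1 : V) + w.2.1 • e + w.2.2 • f
      left_inv := by
        intro v
        show v - QuadraticMap.polar Q f v • e - QuadraticMap.polar Q e v • f
          + QuadraticMap.polar Q f v • e + QuadraticMap.polar Q e v • f = v
        abel
      right_inv := by
        rintro ⟨⟨w, hw⟩, a, b⟩
        obtain ⟨hw1, hw2⟩ := (hW w).1 hw
        have ha : QuadraticMap.polar Q f (w + a • e + b • f) = a := by
          simp only [QuadraticMap.polar_add_right, QuadraticMap.polar_smul_right, hw2, hfe, hff]
          simp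
        have hb : QuadraticMap.polar Q e (w + a • e + b • f) = b := by
          simp only [QuadraticMap.polar_add_right, QuadraticMap.polar_smul_right, hw1, hee, hef]
          simp
        refine Prod.ext (Subtype.ext ?_) (Prod.ext ?_ ?_)
        · show w + a • e + b • f - QuadraticMap.polar Q f (w + a • e + b • f) • e
            - QuadraticMap.polar Q e (w + a • e + b • f) • f = w
          rw [ha, hb]
          abel
        · exact ha
        · exact hb }
  have hφ : ∀ v, ((φ v).1 : V) = v - QuadraticMap.polar Q f v • e - QuadraticMap.polar Q e v • f :=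
    fun v => rfl
  have hφ1 : ∀ v, (φ v).2.1 = QuadraticMap.polar Q f v := fun v => rfl
  have hφ2 : ∀ v, (φ v).2.2 = QuadraticMap.polar Q e v := fun v => rfl
  have hdec : ∀ v, v = ((φ v).1 : V) + (φ v).2.1 • e + (φ v).2.2 • f := by
    intro v
    rw [hφ, hφ1, hφ2]
    abel
  refine ⟨W, φ, ?_, ?_⟩
  · intro v
    rw [hypExt_apply]
    show Q ((φ v).1 : V) + (φ v).2.1 * (φ v).2.2 = Q v
    obtain ⟨hw1, hw2⟩ := (hW _).1 (φ v).1.2
    conv_rhs => rw [hdec v]
    generalize ((φ v).1 : V) = w at hw1 hw2
    generalize (φ v).2.1 = a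
    generalize (φ v).2.2 = b
    rw [QuadraticMap.map_add Q, QuadraticMap.map_add Q, QuadraticMap.map_smul,
      QuadraticMap.map_smul]
    simp only [QuadraticMap.polar_add_left, QuadraticMap.polar_smul_left,
      QuadraticMap.polar_smul_right, he0, hf0, hef, smul_eq_mul]
    rw [QuadraticMap.polar_comm Q w e, QuadraticMap.polar_comm Q w f, hw1, hw2]
    ring
  · apply nondeg_of_left
    intro w hw
    have h0 : (w : V) = 0 := by
      apply hQ.1
      intro v
      rw [QuadraticMap.polarBilin_apply_apply]
      obtain ⟨hw1, hw2⟩ := (hW _).1 w.2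
      have h3 := hw (φ v).1
      have h4 : QuadraticMap.polar Q (w : V) ((φ v).1 : V) = 0 := h3
      rw [hdec v]
      simp only [QuadraticMap.polar_add_right, QuadraticMap.polar_smul_right, h4]
      rw [QuadraticMap.polar_comm Q (w : V) e, QuadraticMap.polar_comm Q (w : V) f, hw1, hw2]
      simp
    exact Subtype.ext h0

end

universe u

/-- Package [SPLIT] of the OCLS project. -/
theorem pkgSplit : Cfsg.Agent.Lib.Helper14.OCls.PkgSplit.{u} := by
  intro F _ V _ _ _ Q hQ e he he0
  exact split_hyp Q hQ e he he0

end Cfsg.Agent.Lib.Helper76.OCls
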